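import Cfsg.Agent.ChevTw.TwD4Diag
import Cfsg.Agent.ChevTwOrd.Perfect
import Cfsg.Agent.Chev.Main

/-!
A homomorphism `GL₂ → GL(D₄)` on the highest root and a commuting one-dimensional torus of ³D₄(q)
(owner: helper86).
-/

set_option autoImplicit false
set_option linter.unusedSimpArgs false

namespace Cfsg.Agent.ChevTw.D4Torus

open Cfsg.Lie Cfsg.Agent.ChevGrp Cfsg.Agent.Chev Cfsg.Agent.ChevTw

theorem tablesD4 : chevD4.neg 23 = 0 ∧ chevD4.neg 0 = 23 ∧ chevD4.IsPosRoot 23 ∧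
    chevD4.cartan 1 23 = 1 ∧ chevD4.cartan 1 0 = -1 ∧
    (∀ j ∈ [0, 2, 3], chevD4.cartan j 23 = 0 ∧ chevD4.cartan j 0 = 0) ∧
    twD4.root 23 = 23 ∧ twD4.root 0 = 0 ∧ symD4.sgn 23 = 1 ∧ symD4.sgn 0 = 1 := by decide +kernel

theorem torusExp_top : ∀ s < chevD4.nroots, torusExp chevD4 23 s =
    chevD4.cartan 0 s + 2 * chevD4.cartan 1 s + chevD4.cartan 2 s + chevD4.cartan 3 s := by
  decide +kernel

variable (K : Type*) [Field K]

/-- The chosen root lengths. -/
noncomputable def lenD4 : ℕ → ℕ := (rulesD4 K).root.choose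

theorem rootD4 : RootTable chevD4 (lenD4 K) := (rulesD4 K).root.choose_spec

/-- The matrix system. -/
noncomputable abbrev sysD4 : Sys chevD4 K (GL chevD4.Idx K) := glSys (rulesD4 K)

/-- The torus map. -/
noncomputable def torD4 : (Fin chevD4.rank → Kˣ) →* GL chevD4.Idx K :=
  (sysD4 K).tau (rulesD4 K) (rootD4 K) (glSys_HMul (rulesD4 K) (rootD4 K))

/-- The exponent of the character on a root. -/
def chiD4 (c : Fin chevD4.rank → Kˣ) (r : ℕ) : Kˣ :=
  c ⟨0, by decide⟩ ^ chevD4.cartan 0 r * c ⟨1, by decide⟩ ^ chevD4.cartan 1 r *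
    c ⟨2, by decide⟩ ^ chevD4.cartan 2 r * c ⟨3, by decide⟩ ^ chevD4.cartan 3 r

variable {K}

theorem prod_cartan (c : Fin chevD4.rank → Kˣ) (r : ℕ) :
    ∏ j : Fin chevD4.rank, c j ^ chevD4.cartan j r = chiD4 K c r := by
  change ∏ j : Fin 4, c j ^ chevD4.cartan j.val r = _
  rw [Fin.prod_univ_four]
  rfl

theorem mkD4_mul (a b c d a' b' c' d' : Kˣ) :
    mkD4 a b c d * mkD4 a' b' c' d' = (mkD4 (a * a') (b * b') (c * c') (d * d') : Fin chevD4.rank → Kˣ) := by
  rw [funext_iff, forallD4]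
  exact ⟨rfl, rfl, rfl, rfl⟩

theorem mkD4_one : (mkD4 1 1 1 1 : Fin chevD4.rank → Kˣ) = 1 := by
  rw [funext_iff, forallD4]
  exact ⟨rfl, rfl, rfl, rfl⟩

theorem torD4_conj (c : Fin chevD4.rank → Kˣ) {r : ℕ} (hr : r < chevD4.nroots) (t : K) :
    torD4 K c * xGL chevD4 K r t * (torD4 K c)⁻¹ = xGL chevD4 K r ((chiD4 K c r : K) * t) := by
  rw [← prod_cartan]
  exact Cfsg.Agent.ChevTwOrd.tau_conj (S := sysD4 K) (rulesD4 K) (rootD4 K) _ c r hr t

theorem torD4_commute (c : Fin chevD4.rank → Kˣ) {r : ℕ} (hr : r < chevD4.nroots) (h : chiD4 K c r = 1)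
    (t : K) : Commute (torD4 K c) (xGL chevD4 K r t) := by
  have := torD4_conj c hr t
  rw [h, Units.val_one, one_mul] at this
  exact mul_inv_eq_iff_eq_mul.1 this

theorem torD4_mem_Hbar (c : Fin chevD4.rank → Kˣ) : torD4 K c ∈ (sysD4 K).Hbar := by
  rw [← (sysD4 K).tau_range (rulesD4 K) (rootD4 K) (glSys_HMul (rulesD4 K) (rootD4 K))]
  exact ⟨c, rfl⟩

theorem exists_torD4 {h : GL chevD4.Idx K} (hh : h ∈ (sysD4 K).Hbar) : ∃ c, torD4 K c = h := by
  rw [← (sysD4 K).tau_range (rulesD4 K) (rootD4 K) (glSys_HMul (rulesD4 K) (rootD4 K))] at hh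
  exact hh

theorem torD4_eq_one_iff (c : Fin chevD4.rank → Kˣ) : torD4 K c = 1 ↔ c ∈ rootKer chevD4 K :=
  (sysD4 K).θ_tau_eq_one_iff (rulesD4 K) (rootD4 K) (glSys_HMul (rulesD4 K) (rootD4 K)) c

theorem x_param_inj {r : ℕ} (hr : r < chevD4.nroots) {t u : K} (e : xGL chevD4 K r t = xGL chevD4 K r u) :
    t = u := by
  have h1 : (sysD4 K).x r t * (sysD4 K).x r (-u) = 1 := by
    show xGL chevD4 K r t * xGL chevD4 K r (-u) = 1
    rw [e]
    exact ((sysD4 K).x_add r hr u (-u)).trans (by rw [add_neg_cancel]; exact (sysD4 K).x_zero hr)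
  rw [(sysD4 K).x_add r hr] at h1
  have h2 : chevD4.x K r (t + -u) = 1 := by
    rw [← val_xGL (rulesD4 K)]
    exact congrArg Units.val h1
  have := (validD4.x_eq_one_iff hr).1 h2
  linear_combination this

section phi

variable (K)

/-- The root elements of the highest root satisfy the rank one relations. -/
theorem rankOneTop : RankOne K (xGL chevD4 K 23) (xGL chevD4 K 0) := by
  have h23 : (23 : ℕ) < chevD4.nroots := by decide
  have e1 : (validD4.xU (F := K) h23) = xGL chevD4 K 23 :=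
    funext fun t => Units.ext (val_xGL (rulesD4 K) 23 t).symm
  have e2 : (validD4.xU (F := K) (validD4.neg_lt h23)) = xGL chevD4 K 0 :=
    funext fun t => Units.ext (by
      rw [val_xGL (rulesD4 K) 0 t, ← tablesD4.1]
      rfl)
  have h := validD4.rankOne (F := K) h23
  rwa [e1, e2] at h

/-- The homomorphism of `SL₂` on the highest root. -/
noncomputable def phi : Matrix.SpecialLinearGroup (Fin 2) K →* GL chevD4.Idx K := (rankOneTop K).hom

variable {K}

theorem phi_upper (t : K) : phi K (RankOne.upper t) = xGL chevD4 K 23 t :=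
  (rankOneTop K).hom_upper rfl

/-- The lower unitriangular matrix. -/
def lower (t : K) : Matrix.SpecialLinearGroup (Fin 2) K :=
  ⟨!![1, 0; t, 1], by simp [Matrix.det_fin_two]⟩

theorem phi_lower (t : K) : phi K (lower t) = xGL chevD4 K 0 t := (rankOneTop K).hom_lower rfl

theorem weyl_eq : (RankOne.weyl : Matrix.SpecialLinearGroup (Fin 2) K) =
    RankOne.upper 1 * lower (-1) * RankOne.upper 1 := by
  apply Subtype.ext
  rw [RankOne.sl_mul_val, RankOne.sl_mul_val]
  ext i j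
  fin_cases i <;> fin_cases j <;>
    simp [RankOne.weyl, RankOne.upper, lower, Matrix.mul_apply, Fin.sum_univ_two]

theorem sl2_induction {P : Submonoid (Matrix.SpecialLinearGroup (Fin 2) K)}
    (hu : ∀ t, RankOne.upper t ∈ P) (hl : ∀ t, lower t ∈ P) (g : Matrix.SpecialLinearGroup (Fin 2) K) :
    g ∈ P :=
  RankOne.mem_of_upper_weyl hu (by rw [weyl_eq]; exact mul_mem (mul_mem (hu _) (hl _)) (hu _)) g

theorem phi_weyl : phi K RankOne.weyl = (sysD4 K).nEl 23 1 := by
  rw [weyl_eq, map_mul, map_mul, phi_upper, phi_lower]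
  show _ = xGL chevD4 K 23 1 * xGL chevD4 K (chevD4.neg 23) (-1⁻¹) * xGL chevD4 K 23 1
  rw [tablesD4.1, inv_one]

theorem hEl_top_eq {a : K} (ha : a ≠ 0) :
    (sysD4 K).hEl 23 a =
      torD4 K (mkD4 (Units.mk0 a ha) (Units.mk0 a ha ^ 2) (Units.mk0 a ha) (Units.mk0 a ha)) := by
  have h23 : (23 : ℕ) < chevD4.nroots := by decide
  refine Units.ext ?_
  rw [← glSys_mat (rulesD4 K), ← glSys_mat (rulesD4 K), torD4, (sysD4 K).mat_hEl (rootD4 K) h23,
    (sysD4 K).mat_tau, validD4.hMat_eq h23 ha, hDiag]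
  congr 1
  funext i
  rcases i with i | s
  · rfl
  · simp only [Sum.elim_inr]
    rw [prod_cartan, torusExp_top s s.2, chiD4]
    simp only [mkD4, List.getD_cons_zero, List.getD_cons_succ, Units.val_mul, Units.val_zpow_eq_zpow_val,
      Units.val_pow_eq_pow_val, Units.val_mk0]
    rw [zpow_add₀ ha, zpow_add₀ ha, zpow_add₀ ha, zpow_mul, zpow_ofNat]

theorem phi_of_zero {g : Matrix.SpecialLinearGroup (Fin 2) K} (hc : g.1 1 0 = 0) :
    phi K g = (sysD4 K).hEl 23 (g.1 0 0) * xGL chevD4 K 23 (g.1 0 1 / g.1 0 0) := by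
  show RankOne.valE _ _ _ _ _ _ = _
  rw [RankOne.valE_zero hc, RankOne.h, RankOne.w, RankOne.w]
  simp only [Sys.hEl, Sys.nEl, tablesD4.1]
  rfl

theorem phi_of_ne {g : Matrix.SpecialLinearGroup (Fin 2) K} (hc : g.1 1 0 ≠ 0) :
    phi K g = xGL chevD4 K 23 (g.1 0 0 / g.1 1 0) * (sysD4 K).nEl 23 (-(g.1 1 0)⁻¹) *
      xGL chevD4 K 23 (g.1 1 1 / g.1 1 0) := by
  show RankOne.valE _ _ _ _ _ _ = _
  rw [RankOne.valE_ne hc, RankOne.w]
  simp only [Sys.nEl, tablesD4.1]
  rfl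

theorem nEl_top_not_mem_Bbar {u : K} (hu : u ≠ 0) : (sysD4 K).nEl 23 u ∉ (sysD4 K).Bbar := by
  intro h
  have h23 : (23 : ℕ) < chevD4.nroots := by decide
  have hN := (sysD4 K).nEl_mem_Nbar (rulesD4 K) (rootD4 K) h23 hu
  have hH : (sysD4 K).nEl 23 u ∈ (sysD4 K).Hbar := by
    rw [← (sysD4 K).Bbar_inf_Nbar (rulesD4 K) (rootD4 K)]
    exact Subgroup.mem_inf.2 ⟨h, hN⟩
  obtain ⟨a, ha, hca⟩ := (sysD4 K).conjP_Hbar (rulesD4 K) (rootD4 K) hH
  have e1 := hca 23 h23 1
  have e2 : (sysD4 K).nEl 23 u * (sysD4 K).x 23 1 * ((sysD4 K).nEl 23 u)⁻¹ =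
      (sysD4 K).x 0 (-(1 / u ^ 2)) := by
    rw [mul_inv_eq_iff_eq_mul]
    have := (rankOneTop K).w_x u hu 1
    simp only [Sys.nEl, tablesD4.1]
    exact this
  rw [act_nil, e2] at e1
  exact absurd ((sysD4 K).x_root_inj (rootD4 K) (show 0 < chevD4.nroots by decide) h23
    (neg_ne_zero.2 (by simp [hu])) e1) (by decide)

theorem phi_mem_Hbar {g : Matrix.SpecialLinearGroup (Fin 2) K} (h : phi K g ∈ (sysD4 K).Hbar) :
    g.1 1 0 = 0 ∧ g.1 0 1 = 0 := by
  have h23 : (23 : ℕ) < chevD4.nroots := by decide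
  have hx : ∀ t, xGL chevD4 K 23 t ∈ (sysD4 K).Ubar := fun t =>
    (sysD4 K).x_mem_US (T := posSet chevD4) tablesD4.2.2.1 t
  have hU := (sysD4 K).Ubar_le_Bbar
  by_cases hc : g.1 1 0 = 0
  · refine ⟨hc, ?_⟩
    have ha : g.1 0 0 ≠ 0 := by
      have hd := RankOne.det_eq g
      rw [hc, mul_zero, sub_zero] at hd
      exact left_ne_zero_of_mul_eq_one hd
    rw [phi_of_zero hc] at h
    have hH := (sysD4 K).hEl_mem_Hbar (rulesD4 K) (rootD4 K) h23 ha
    have h1 : xGL chevD4 K 23 (g.1 0 1 / g.1 0 0) ∈ (sysD4 K).Ubar ⊓ (sysD4 K).Hbar :=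
      Subgroup.mem_inf.2 ⟨hx _, by simpa using mul_mem (inv_mem hH) h⟩
    rw [(sysD4 K).Ubar_inf_Hbar (rulesD4 K) (rootD4 K), Subgroup.mem_bot] at h1
    have := x_param_inj h23 (h1.trans ((sysD4 K).x_zero h23).symm)
    exact (div_eq_zero_iff.1 this).resolve_right ha
  · exfalso
    rw [phi_of_ne hc] at h
    refine nEl_top_not_mem_Bbar (K := K) (neg_ne_zero.2 (inv_ne_zero hc)) ?_
    have h' : _ ∈ (sysD4 K).Bbar := mul_mem (mul_mem (inv_mem (hU (hx (g.1 0 0 / g.1 1 0))))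
      ((sysD4 K).Hbar_le_Bbar h)) (inv_mem (hU (hx (g.1 1 1 / g.1 1 0))))
    simpa [mul_assoc] using h'

theorem torD4_commute_phi (c : Fin chevD4.rank → Kˣ) (h : c ⟨1, by decide⟩ = 1)
    (g : Matrix.SpecialLinearGroup (Fin 2) K) : Commute (torD4 K c) (phi K g) := by
  obtain ⟨-, -, -, c1, c2, c3, -⟩ := tablesD4
  have e : ∀ r ∈ [23, 0], chiD4 K c r = 1 := by
    intro r hr
    simp only [List.mem_cons, List.not_mem_nil, or_false] at hr
    rcases hr with rfl | rfl <;>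
      simp [chiD4, h, c3 0 (by simp), c3 2 (by simp), c3 3 (by simp)]
  have key := sl2_induction
    (P := (Submonoid.centralizer ({torD4 K c} : Set (GL chevD4.Idx K))).comap (phi K))
    (fun t => by
      rw [Submonoid.mem_comap, phi_upper, Submonoid.mem_centralizer_iff]
      rintro x rfl
      exact torD4_commute c (by decide) (e 23 (by simp)) t)
    (fun t => by
      rw [Submonoid.mem_comap, phi_lower, Submonoid.mem_centralizer_iff]
      rintro x rfl
      exact torD4_commute c (by decide) (e 0 (by simp)) t) g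
  exact Submonoid.mem_centralizer_iff.1 (Submonoid.mem_comap.1 key) _ rfl

/-- `diag(t, 1)`. -/
def dg (t : Kˣ) : GL (Fin 2) K where
  val := !![(t : K), 0; 0, 1]
  inv := !![((t⁻¹ : Kˣ) : K), 0; 0, 1]
  val_inv := by simp [Matrix.one_fin_two]
  inv_val := by simp [Matrix.one_fin_two]

theorem dg_mul (a b : Kˣ) : dg (a * b) = dg a * dg b := by
  refine Units.ext ?_
  ext i j
  fin_cases i <;> fin_cases j <;> simp [dg, Matrix.mul_apply, Fin.sum_univ_two]

theorem det_dg (t : Kˣ) : (dg t : Matrix (Fin 2) (Fin 2) K).det = t := by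
  simp [dg, Matrix.det_fin_two]

/-- Conjugation by `diag(t, 1)`. -/
def conjDg (t : Kˣ) (g : Matrix.SpecialLinearGroup (Fin 2) K) : Matrix.SpecialLinearGroup (Fin 2) K :=
  ⟨(dg t : Matrix (Fin 2) (Fin 2) K) * g.1 * ((dg t)⁻¹ : GL (Fin 2) K).1, by
    rw [Matrix.det_mul, Matrix.det_mul, g.2, mul_one, ← Matrix.det_mul, ← Units.val_mul, mul_inv_cancel,
      Units.val_one, Matrix.det_one]⟩

/-- `h(t) = τ(1, t, 1, 1)`. -/
noncomputable def hzero : Kˣ →* GL chevD4.Idx K :=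
  (torD4 K).comp
    { toFun := fun t => mkD4 1 t 1 1
      map_one' := mkD4_one
      map_mul' := fun a b => by rw [mkD4_mul, one_mul] }

theorem hzero_conj_phi (t : Kˣ) (g : Matrix.SpecialLinearGroup (Fin 2) K) :
    hzero t * phi K g * (hzero t)⁻¹ = phi K (conjDg t g) := by
  obtain ⟨-, -, -, c1, c2, c3, -⟩ := tablesD4
  let conjH : Matrix.SpecialLinearGroup (Fin 2) K →* Matrix.SpecialLinearGroup (Fin 2) K :=
    MonoidHom.mk' (conjDg t) fun a b => Subtype.ext (by
      show (conjDg t (a * b)).1 = (conjDg t a).1 * (conjDg t b).1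
      simp only [conjDg, RankOne.sl_mul_val]
      rw [show (dg t : Matrix (Fin 2) (Fin 2) K) * a.1 * (((dg t)⁻¹ : GL (Fin 2) K).1) *
          ((dg t : Matrix (Fin 2) (Fin 2) K) * b.1 * (((dg t)⁻¹ : GL (Fin 2) K).1)) =
        (dg t : Matrix (Fin 2) (Fin 2) K) * a.1 * ((((dg t)⁻¹ : GL (Fin 2) K).1) *
          (dg t : Matrix (Fin 2) (Fin 2) K)) * b.1 * (((dg t)⁻¹ : GL (Fin 2) K).1) by
          simp only [mul_assoc], ← Units.val_mul, inv_mul_cancel, Units.val_one, mul_one]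
      simp only [mul_assoc])
  refine DFunLike.congr_fun (?_ : (MulAut.conj (hzero t)).toMonoidHom.comp (phi K) = (phi K).comp conjH) g
  refine MonoidHom.ext (sl2_induction
    (P := ((MulAut.conj (hzero t)).toMonoidHom.comp (phi K)).eqLocusM ((phi K).comp conjH))
    (fun u => ?_) (fun u => ?_))
  · show hzero t * phi K (RankOne.upper u) * (hzero t)⁻¹ = phi K (conjDg t (RankOne.upper u))
    have e : conjDg t (RankOne.upper u) = RankOne.upper ((t : K) * u) := by
      apply Subtype.ext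
      ext i j
      fin_cases i <;> fin_cases j <;>
        simp [conjDg, dg, RankOne.upper, Matrix.mul_apply, Fin.sum_univ_two]
    rw [e, phi_upper, phi_upper, hzero]
    simp [torD4_conj _ (show (23 : ℕ) < chevD4.nroots by decide), chiD4, mkD4, c1, c3 0, c3 2, c3 3]
  · show hzero t * phi K (lower u) * (hzero t)⁻¹ = phi K (conjDg t (lower u))
    have e : conjDg t (lower u) = lower ((t : K)⁻¹ * u) := by
      apply Subtype.ext
      ext i j
      fin_cases i <;> fin_cases j <;>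
        simp [conjDg, dg, lower, Matrix.mul_apply, Fin.sum_univ_two, mul_comm]
    rw [e, phi_lower, phi_lower, hzero]
    simp [torD4_conj _ (show (0 : ℕ) < chevD4.nroots by decide), chiD4, mkD4, c2, c3 0, c3 2, c3 3]

/-- `diag(det M, 1)⁻¹ M`. -/
def toSL (M : GL (Fin 2) K) : Matrix.SpecialLinearGroup (Fin 2) K :=
  ⟨(((dg (Matrix.GeneralLinearGroup.det M))⁻¹ * M : GL (Fin 2) K) : Matrix (Fin 2) (Fin 2) K), by
    rw [Units.val_mul, Matrix.det_mul]
    have h1 : (dg (Matrix.GeneralLinearGroup.det M) : Matrix (Fin 2) (Fin 2) K).det = M.1.det := det_dg _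
    rw [← h1, ← Matrix.det_mul, ← Units.val_mul, inv_mul_cancel, Units.val_one, Matrix.det_one]⟩

/-- The homomorphism `GL₂ → GL(D₄)`. -/
noncomputable def psi : GL (Fin 2) K →* GL chevD4.Idx K :=
  MonoidHom.mk' (fun M => hzero (Matrix.GeneralLinearGroup.det M) * phi K (toSL M)) fun M N => by
    have e : conjDg (Matrix.GeneralLinearGroup.det N) (toSL (M * N)) = toSL M *
        conjDg (Matrix.GeneralLinearGroup.det N) (toSL N) := by
      apply Subtype.ext
      rw [RankOne.sl_mul_val]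
      simp only [conjDg, toSL, map_mul, dg_mul, ← Units.val_mul]
      congr 1
      group
    have e' := congrArg (phi K) e
    rw [map_mul, ← hzero_conj_phi, ← hzero_conj_phi] at e'
    rw [map_mul, map_mul]
    calc hzero (Matrix.GeneralLinearGroup.det M) * hzero (Matrix.GeneralLinearGroup.det N) *
          phi K (toSL (M * N))
        = hzero (Matrix.GeneralLinearGroup.det M) * (hzero (Matrix.GeneralLinearGroup.det N) *
            phi K (toSL (M * N)) * (hzero (Matrix.GeneralLinearGroup.det N))⁻¹) *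
            hzero (Matrix.GeneralLinearGroup.det N) := by group
      _ = _ := by rw [e']; group

theorem psi_apply (M : GL (Fin 2) K) :
    psi M = hzero (Matrix.GeneralLinearGroup.det M) * phi K (toSL M) := rfl

theorem psi_sl (g : Matrix.SpecialLinearGroup (Fin 2) K) :
    psi (Matrix.SpecialLinearGroup.toGL g) = phi K g := by
  have hd : Matrix.GeneralLinearGroup.det (Matrix.SpecialLinearGroup.toGL g) = 1 := Units.ext g.2
  have e : toSL (Matrix.SpecialLinearGroup.toGL g) = g := by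
    apply Subtype.ext
    simp only [toSL, hd]
    rw [show dg (1 : Kˣ) = 1 from Units.ext (by simp [dg, Matrix.one_fin_two]), inv_one, one_mul]
    rfl
  rw [psi_apply, hd, map_one, one_mul, e]

theorem psi_diag {M : GL (Fin 2) K} {m1 m2 : Kˣ} (h : M.1 = !![(m1 : K), 0; 0, (m2 : K)]) :
    psi M = torD4 K (mkD4 m2⁻¹ (m1 * m2⁻¹) m2⁻¹ m2⁻¹) := by
  have hd : Matrix.GeneralLinearGroup.det M = m1 * m2 := by
    refine Units.ext ?_
    show M.1.det = _
    simp [h, Matrix.det_fin_two]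
  have e : (toSL M).1 = !![(((m2⁻¹ : Kˣ)) : K), 0; 0, (m2 : K)] := by
    show (((dg (Matrix.GeneralLinearGroup.det M))⁻¹ * M : GL (Fin 2) K) : Matrix (Fin 2) (Fin 2) K) = _
    rw [hd, Units.val_mul, h]
    show !![((m1 * m2)⁻¹ : Kˣ).val, 0; 0, 1] * !![(m1 : K), 0; 0, (m2 : K)] = _
    simp
  have hc : (toSL M).1 1 0 = 0 := by simp [e]
  have ha : (toSL M).1 0 0 = ((m2⁻¹ : Kˣ) : K) := by simp [e]
  have h0 : ((m2⁻¹ : Kˣ) : K) ≠ 0 := Units.ne_zero _
  rw [psi_apply, phi_of_zero hc, ha, hEl_top_eq h0, Units.mk0_val, hd,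
    show (toSL M).1 0 1 = 0 by simp [e], zero_div,
    show xGL chevD4 K 23 (0 : K) = 1 from (sysD4 K).x_zero (by decide), mul_one, hzero,
    MonoidHom.comp_apply, ← map_mul]
  congr 1
  show mkD4 1 (m1 * m2) 1 1 * _ = _
  rw [mkD4_mul, one_mul]
  congr 1
  group

theorem psi_mem_Hbar {M : GL (Fin 2) K} (h : psi M ∈ (sysD4 K).Hbar) :
    M.1 1 0 = 0 ∧ M.1 0 1 = 0 := by
  rw [psi_apply] at h
  have h1 : phi K (toSL M) ∈ (sysD4 K).Hbar := by
    simpa [hzero] using mul_mem (inv_mem (torD4_mem_Hbar (mkD4 1 (Matrix.GeneralLinearGroup.det M) 1 1))) h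
  obtain ⟨h10, h01⟩ := phi_mem_Hbar h1
  have e : M = dg (Matrix.GeneralLinearGroup.det M) * Matrix.SpecialLinearGroup.toGL (toSL M) := by
    refine Units.ext ?_
    rw [Units.val_mul]
    show _ = _ * (((dg (Matrix.GeneralLinearGroup.det M))⁻¹ * M : GL (Fin 2) K) : Matrix (Fin 2) (Fin 2) K)
    rw [← Units.val_mul, mul_inv_cancel_left]
  rw [e]
  rw [Units.val_mul]
  simp [dg, Matrix.mul_apply, Fin.sum_univ_two, h10, h01]

theorem exists_diag {M : GL (Fin 2) K} (h : M.1 1 0 = 0 ∧ M.1 0 1 = 0) :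
    ∃ m1 m2 : Kˣ, M.1 = !![(m1 : K), 0; 0, (m2 : K)] := by
  have hd : M.1 0 0 * M.1 1 1 ≠ 0 := by
    have := (Matrix.GeneralLinearGroup.det M).ne_zero
    rw [Matrix.GeneralLinearGroup.val_det_apply, Matrix.det_fin_two, h.1, mul_zero, sub_zero] at this
    exact this
  refine ⟨Units.mk0 _ (left_ne_zero_of_mul hd), Units.mk0 _ (right_ne_zero_of_mul hd), ?_⟩
  ext i j
  fin_cases i <;> fin_cases j <;> simp [h.1, h.2]

theorem psi_injective : Function.Injective (psi (K := K)) := by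
  refine (injective_iff_map_eq_one _).2 fun M hM => ?_
  obtain ⟨m1, m2, h⟩ := exists_diag (psi_mem_Hbar (by rw [hM]; exact one_mem _))
  rw [psi_diag h, torD4_eq_one_iff, rootKer_D4_iff] at hM
  obtain ⟨h1, h0, -, -, hp⟩ := hM
  change m1 * m2⁻¹ = 1 at h1
  change m2⁻¹ ^ 2 = 1 at h0
  change m2⁻¹ * m2⁻¹ * m2⁻¹ = 1 at hp
  rw [← pow_two, h0, one_mul, inv_eq_one] at hp
  rw [hp, inv_one, mul_one] at h1
  refine Units.ext ?_
  rw [h, h1, hp]
  simp [Matrix.one_fin_two]

theorem torD4_commute_psi (c : Fin chevD4.rank → Kˣ) (h : c ⟨1, by decide⟩ = 1) (M : GL (Fin 2) K) :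
    Commute (torD4 K c) (psi M) := by
  rw [psi_apply]
  refine Commute.mul_right ?_ (torD4_commute_phi c h _)
  rw [hzero, MonoidHom.comp_apply]
  exact (Commute.all c _).map (torD4 K)

end phi

end Cfsg.Agent.ChevTw.D4Torus
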