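import Cfsg.Agent.ChevTw.D4Torus.Levi

/-!
The cyclic torus of order `(q³ - 1)(q + 1)` in ³D₄(q) (owner: helper86).
-/

set_option autoImplicit false
set_option linter.unusedSimpArgs false

namespace Cfsg.Agent.ChevTw.D4Torus

open Cfsg.Lie Cfsg.Agent.ChevGrp Cfsg.Agent.Chev Cfsg.Agent.ChevTw

theorem wordTop : act chevD4 (twD4.wJ chevD4 ⟨0, by decide⟩ ++ twD4.wJ chevD4 ⟨1, by decide⟩) 14 = 23 ∧
    act chevD4 (twD4.wJ chevD4 ⟨0, by decide⟩ ++ twD4.wJ chevD4 ⟨1, by decide⟩) 9 = 0 := by decide +kernel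

variable {K : Type*} [Field K]

/-- The torus parameters of the one-dimensional torus. -/
def sMap (q : ℕ) : Kˣ →* (Fin chevD4.rank → Kˣ) where
  toFun s := mkD4 s 1 (s ^ q) ((s ^ q) ^ q)
  map_one' := by simp only [one_pow]; exact mkD4_one
  map_mul' a b := by rw [mkD4_mul, one_mul, mul_pow, mul_pow]

/-- The one-dimensional torus. -/
noncomputable def sigS (q : ℕ) : Kˣ →* GL chevD4.Idx K := (torD4 K).comp (sMap q)

theorem sigS_commute_psi (q : ℕ) (s : Kˣ) (M : GL (Fin 2) K) : Commute (sigS q s) (psi M) :=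
  torD4_commute_psi _ rfl M

variable [Fintype K] {q : ℕ} (hq : IsPrimePow q) (hK : Fintype.card K = q ^ 3)

/-- The field with `q` elements. -/
noncomputable def FF : Subfield K := RingHom.eqLocusField (frobD4 hq hK) (RingHom.id K)

theorem mem_FF {t : K} : t ∈ FF hq hK ↔ t ^ q = t := by
  rw [← frobD4_apply hq hK]
  rfl

theorem pow_q_FF (t : FF hq hK) : (t : K) ^ q = t := (mem_FF hq hK).1 t.2

theorem card_FF : Nat.card (FF hq hK) = q :=
  (Nat.card_congr (Equiv.subtypeEquivRight fun _ => mem_FF hq hK)).trans (card_fixed hq.one_lt hK)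

theorem sig_xtop (t : K) : (twistD4 hq hK).sig (xGL chevD4 K 23 t) = xGL chevD4 K 23 (t ^ q) ∧
    (twistD4 hq hK).sig (xGL chevD4 K 0 t) = xGL chevD4 K 0 (t ^ q) := by
  obtain ⟨-, -, -, -, -, -, h23, h0, e23, e0⟩ := tablesD4
  constructor
  · refine ((twistD4 hq hK).sig_x 23 (by decide) t).trans ?_
    show xGL chevD4 K (twD4.root 23) ((symD4.sgn 23 : K) * frobD4 hq hK t) = _
    rw [h23, e23, frobD4_apply, Int.cast_one, one_mul]
  · refine ((twistD4 hq hK).sig_x 0 (by decide) t).trans ?_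
    show xGL chevD4 K (twD4.root 0) ((symD4.sgn 0 : K) * frobD4 hq hK t) = _
    rw [h0, e0, frobD4_apply, Int.cast_one, one_mul]

include hq hK in
theorem xtop_mem {t : K} (ht' : t ^ q = t) :
    xGL chevD4 K 23 t ∈ twistedD4 K q ∧ xGL chevD4 K 0 t ∈ twistedD4 K q := by
  have hR := rootD4 K
  set W := grpD4 hq hK
  obtain ⟨-, c0, m0⟩ := W.nJ_spec (rulesD4 K) hR ⟨0, by decide⟩
  obtain ⟨-, c1, m1⟩ := W.nJ_spec (rulesD4 K) hR ⟨1, by decide⟩
  obtain ⟨a, ha, hna⟩ := c0.mul hR c1
  set n := W.nJ (rulesD4 K) hR ⟨0, by decide⟩ * W.nJ (rulesD4 K) hR ⟨1, by decide⟩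
  have hn : n ∈ twistedD4 K q := mul_mem m0 m1
  have hx : ∀ r ∈ [14, 9], ∀ s : K, s ^ q = s → xGL chevD4 K r s ∈ twistedD4 K q := by
    intro r hr s hs
    have h := word_mem_genSubgroup (rulesD4 K) (W := d4Words K q) (w := [(r, s)])
      (Or.inl ⟨s, hs, r, hr, rfl⟩)
    rw [List.map_singleton, List.prod_singleton] at h
    exact h
  have key : ∀ r ∈ [14, 9], ∀ u : ℕ, u = 23 ∨ u = 0 →
      act chevD4 (twD4.wJ chevD4 ⟨0, by decide⟩ ++ twD4.wJ chevD4 ⟨1, by decide⟩) r = u →
      xGL chevD4 K u t ∈ twistedD4 K q := by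
    intro r hr u hu hact
    have hlt : r < chevD4.nroots := by
      simp only [List.mem_cons, List.not_mem_nil, or_false] at hr
      rcases hr with rfl | rfl <;> decide
    have hmem : ∀ s : K, s ^ q = s → xGL chevD4 K u (a r * s) ∈ twistedD4 K q := by
      intro s hs
      have e : n * xGL chevD4 K r s * n⁻¹ = xGL chevD4 K u (a r * s) := by
        rw [← hact]
        exact hna r hlt s
      rw [← e]
      exact mul_mem (mul_mem hn (hx r hr s hs)) (inv_mem hn)
    have ha0 : a r ≠ 0 := right_ne_zero_of_mul_eq_one (ha r hlt)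
    have hfix : (a r) ^ q = a r := by
      have h1 := W.fixed (hmem 1 (one_pow q))
      rw [mul_one] at h1
      rcases hu with rfl | rfl
      · rw [(sig_xtop hq hK (a r)).1] at h1
        exact x_param_inj (by decide) h1
      · rw [(sig_xtop hq hK (a r)).2] at h1
        exact x_param_inj (by decide) h1
    have h2 := hmem ((a r)⁻¹ * t) (by rw [mul_pow, inv_pow, hfix, ht'])
    rwa [mul_inv_cancel_left₀ ha0] at h2
  exact ⟨key 14 (by simp) 23 (Or.inl rfl) wordTop.1, key 9 (by simp) 0 (Or.inr rfl) wordTop.2⟩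

include hK in
theorem sMap_mem (s : Kˣ) : sMap q s ∈ fixTorusD4 K q :=
  (mem_mkD4_iff _).2 ⟨units_pow_cube hK s, one_pow q, rfl, rfl⟩

include hq hK in
theorem sigS_mem (s : Kˣ) : sigS q s ∈ twistedD4 K q :=
  tau_mem_D4 hq hK (rootD4 K) (sMap_mem hK s)

include hq hK in
theorem hzero_mem {d : Kˣ} (hd : d ^ q = d) : hzero d ∈ twistedD4 K q := by
  show torD4 K (mkD4 1 d 1 1) ∈ _
  exact tau_mem_D4 hq hK (rootD4 K) ((mem_mkD4_iff _).2 ⟨one_pow q, hd, one_pow q, one_pow q⟩)

/-- Entrywise inclusion. -/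
noncomputable def incl : GL (Fin 2) (FF hq hK) →* GL (Fin 2) K :=
  Matrix.GeneralLinearGroup.map (FF hq hK).subtype

theorem incl_val (M : GL (Fin 2) (FF hq hK)) (i j : Fin 2) :
    (incl hq hK M).1 i j = (M.1 i j : K) := rfl

/-- The homomorphism on `GL₂(q)`. -/
noncomputable def psiF : GL (Fin 2) (FF hq hK) →* GL chevD4.Idx K := psi.comp (incl hq hK)

theorem psiF_injective : Function.Injective (psiF hq hK) := by
  refine psi_injective.comp fun M N e => Units.ext (Matrix.ext fun i j => Subtype.ext ?_)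
  rw [← incl_val, ← incl_val, e]

theorem psiF_mem (M : GL (Fin 2) (FF hq hK)) : psiF hq hK M ∈ twistedD4 K q := by
  have hsl : ∀ g : Matrix.SpecialLinearGroup (Fin 2) (FF hq hK),
      phi K (Matrix.SpecialLinearGroup.map (FF hq hK).subtype g) ∈ twistedD4 K q := fun g =>
    sl2_induction (P := ((twistedD4 K q).toSubmonoid).comap
      ((phi K).comp (Matrix.SpecialLinearGroup.map (FF hq hK).subtype)))
      (fun t => by
        show phi K (Matrix.SpecialLinearGroup.map (FF hq hK).subtype (RankOne.upper t)) ∈ twistedD4 K q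
        have e : Matrix.SpecialLinearGroup.map (FF hq hK).subtype (RankOne.upper t) =
            RankOne.upper (t : K) := by
          apply Subtype.ext
          ext i j
          fin_cases i <;> fin_cases j <;> rfl
        rw [e, phi_upper]
        exact (xtop_mem hq hK (pow_q_FF hq hK t)).1)
      (fun t => by
        show phi K (Matrix.SpecialLinearGroup.map (FF hq hK).subtype (lower t)) ∈ twistedD4 K q
        have e : Matrix.SpecialLinearGroup.map (FF hq hK).subtype (lower t) = lower (t : K) := by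
          apply Subtype.ext
          ext i j
          fin_cases i <;> fin_cases j <;> rfl
        rw [e, phi_lower]
        exact (xtop_mem hq hK (pow_q_FF hq hK t)).2) g
  set d := Matrix.GeneralLinearGroup.det M
  set d' : Kˣ := Units.map (FF hq hK).subtype.toMonoidHom d
  have e : incl hq hK M = dg d' *
      Matrix.SpecialLinearGroup.toGL (Matrix.SpecialLinearGroup.map (FF hq hK).subtype (toSL M)) := by
    have e1 : M = dg d * Matrix.SpecialLinearGroup.toGL (toSL M) := by
      refine Units.ext ?_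
      rw [Units.val_mul]
      show _ = _ * (((dg d)⁻¹ * M : GL (Fin 2) (FF hq hK)) : Matrix (Fin 2) (Fin 2) (FF hq hK))
      rw [← Units.val_mul, mul_inv_cancel_left]
    conv_lhs => rw [e1]
    rw [map_mul]
    congr 1
    · refine Units.ext ?_
      ext i j
      rw [incl_val]
      fin_cases i <;> fin_cases j <;> simp [dg, d']
    · exact Units.ext rfl
  rw [psiF, MonoidHom.comp_apply, e, map_mul, psi_sl]
  refine mul_mem ?_ (hsl _)
  rw [psi_diag (M := dg d') (m1 := d') (m2 := 1) rfl]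
  have hd : d' ^ q = d' := Units.ext (by
    rw [Units.val_pow_eq_pow_val]
    exact pow_q_FF hq hK _)
  simpa [hzero] using hzero_mem hq hK hd

section torus

variable {E : Type*} [Field E] [Algebra (FF hq hK) E] (b : Module.Basis (Fin 2) (FF hq hK) E)

/-- The regular representation. -/
noncomputable def reg : Eˣ →* GL (Fin 2) (FF hq hK) :=
  Units.map (Algebra.leftMulMatrix b).toRingHom.toMonoidHom

theorem exists_of_commute (M : GL (Fin 2) (FF hq hK))
    (h : ∀ e : Eˣ, Commute M (reg hq hK b e)) : ∃ e : Eˣ, reg hq hK b e = M := by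
  have h' : ∀ y : E, M.1 * Algebra.leftMulMatrix b y = Algebra.leftMulMatrix b y * M.1 := by
    intro y
    rcases eq_or_ne y 0 with rfl | hy
    · rw [map_zero, mul_zero, zero_mul]
    · exact congrArg Units.val (h (Units.mk0 y hy)).eq
  obtain ⟨e0, he0⟩ : ∃ e0 : E, ⇑(b.repr e0) = Matrix.mulVec M.1 ⇑(b.repr 1) :=
    ⟨b.equivFun.symm (Matrix.mulVec M.1 ⇑(b.repr 1)), b.equivFun.apply_symm_apply _⟩
  have key : M.1 = Algebra.leftMulMatrix b e0 := by
    refine Matrix.ext_iff_mulVec.2 fun v => ?_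
    obtain ⟨y, rfl⟩ : ∃ y : E, ⇑(b.repr y) = v := ⟨b.equivFun.symm v, b.equivFun.apply_symm_apply v⟩
    conv_lhs => rw [← mul_one y, ← Algebra.leftMulMatrix_mulVec_repr, Matrix.mulVec_mulVec, h' y,
      ← Matrix.mulVec_mulVec, ← he0, Algebra.leftMulMatrix_mulVec_repr]
    rw [Algebra.leftMulMatrix_mulVec_repr, mul_comm]
  have hne : e0 ≠ 0 := by
    rintro rfl
    exact M.ne_zero (by rw [key, map_zero])
  exact ⟨Units.mk0 e0 hne, Units.ext key.symm⟩

/-- The parametrisation of the torus. -/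
noncomputable def Phi : Kˣ × Eˣ →* GL chevD4.Idx K :=
  MonoidHom.noncommCoprod (sigS q) ((psiF hq hK).comp (reg hq hK b))
    fun s _ => sigS_commute_psi q s _

theorem Phi_apply (p : Kˣ × Eˣ) :
    Phi hq hK b p = sigS q p.1 * psiF hq hK (reg hq hK b p.2) := rfl

theorem Phi_range_le : (Phi hq hK b).range ≤ twistedD4 K q := by
  rintro _ ⟨p, rfl⟩
  exact mul_mem (sigS_mem hq hK _) (psiF_mem hq hK _)

/-- The diagonal copy of the small field. -/
noncomputable def diag' : (FF hq hK)ˣ →* Kˣ × Eˣ :=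
  MonoidHom.prod (Units.map (FF hq hK).subtype.toMonoidHom)
    (Units.map (algebraMap (FF hq hK) E).toMonoidHom)

theorem Phi_diag (l : (FF hq hK)ˣ) : Phi hq hK b (diag' hq hK l) = 1 := by
  set l' : Kˣ := Units.map (FF hq hK).subtype.toMonoidHom l
  have hl : l' ^ q = l' := Units.ext (by
    rw [Units.val_pow_eq_pow_val]
    exact pow_q_FF hq hK _)
  have e : (incl hq hK (reg hq hK b (Units.map (algebraMap (FF hq hK) E).toMonoidHom l))).1 =
      !![(l' : K), 0; 0, (l' : K)] := by
    ext i j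
    rw [incl_val]
    show ((Algebra.leftMulMatrix b (algebraMap _ E l.1) i j : FF hq hK) : K) = _
    rw [AlgHom.commutes]
    fin_cases i <;> fin_cases j <;> simp [Matrix.algebraMap_matrix_apply, l']
  show sigS q l' *
    psi (incl hq hK (reg hq hK b (Units.map (algebraMap (FF hq hK) E).toMonoidHom l))) = 1
  rw [psi_diag e, sigS, MonoidHom.comp_apply, ← map_mul, ← map_one (torD4 K)]
  congr 1
  show mkD4 l' 1 (l' ^ q) ((l' ^ q) ^ q) * _ = _
  rw [hl, hl, mkD4_mul, mul_inv_cancel, one_mul, mkD4_one]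

theorem ker_Phi : (Phi hq hK b).ker = (diag' hq hK).range := by
  refine le_antisymm ?_ ?_
  · rintro ⟨s, e⟩ he
    rw [MonoidHom.mem_ker, Phi_apply] at he
    set M := incl hq hK (reg hq hK b e) with hM
    change sigS q s * psi M = 1 at he
    have hM' : psi M = torD4 K (sMap q s)⁻¹ := by
      rw [map_inv]
      exact eq_inv_of_mul_eq_one_right he
    obtain ⟨m1, m2, h⟩ := exists_diag (psi_mem_Hbar (K := K) (M := M) (hM'.symm ▸ torD4_mem_Hbar _))
    rw [psi_diag h, sigS, MonoidHom.comp_apply, ← map_mul, torD4_eq_one_iff] at he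
    have hm : ∀ i, ((M.1 i i : K)) ^ q = M.1 i i := fun i => by
      rw [hM, incl_val]; exact pow_q_FF hq hK _
    have hm1 : m1 ^ q = m1 := Units.ext (by simpa [h] using hm 0)
    have hm2 : m2 ^ q = m2 := Units.ext (by simpa [h] using hm 1)
    have hfix : sMap q s * mkD4 m2⁻¹ (m1 * m2⁻¹) m2⁻¹ m2⁻¹ ∈ fixTorusD4 K q := by
      refine mul_mem (sMap_mem hK s) ((mem_mkD4_iff _).2 ?_)
      show m2⁻¹ ^ q = m2⁻¹ ∧ (m1 * m2⁻¹) ^ q = m1 * m2⁻¹ ∧ m2⁻¹ ^ q = m2⁻¹ ∧ m2⁻¹ ^ q = m2⁻¹
      simp [mul_pow, hm1, hm2]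
    have h1 := (Subgroup.mem_bot).1 (kerD4_bot hq hK ▸ Subgroup.mem_inf.2 ⟨he, hfix⟩)
    have a0 : s * m2⁻¹ = 1 := congrFun h1 ⟨0, by decide⟩
    have a1 : 1 * (m1 * m2⁻¹) = 1 := congrFun h1 ⟨1, by decide⟩
    rw [one_mul, mul_inv_eq_one] at a1
    rw [mul_inv_eq_one] at a0
    subst a0 a1
    set l : FF hq hK := (reg hq hK b e).1 0 0 with hl
    have hls : (l : K) = m1 := by
      rw [hl, ← incl_val, ← hM, h]
      rfl
    have hl0 : l ≠ 0 := fun h0 => m1.ne_zero (by rw [← hls, h0]; rfl)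
    have he' : algebraMap (FF hq hK) E l = e := by
      apply Algebra.leftMulMatrix_injective b
      rw [AlgHom.commutes]
      ext i j
      have hij := congrFun (congrFun h i) j
      rw [hM, incl_val] at hij
      show ((algebraMap _ (Matrix (Fin 2) (Fin 2) (FF hq hK)) l) i j : K) =
        (((reg hq hK b e).1 i j : FF hq hK) : K)
      rw [hij]
      fin_cases i <;> fin_cases j <;> simp [Matrix.algebraMap_matrix_apply, hls]
    exact ⟨Units.mk0 l hl0, Prod.ext (Units.ext hls) (Units.ext he')⟩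
  · rintro _ ⟨l, rfl⟩
    exact Phi_diag hq hK b l

include b in
theorem finite_E : Finite E := Finite.of_equiv _ b.equivFun.symm.toEquiv

include b in
theorem card_E : Nat.card E = q ^ 2 := by
  rw [Nat.card_congr b.equivFun.toEquiv, Nat.card_fun, card_FF, Nat.card_fin]

include b in
theorem finite_Eu : Finite Eˣ :=
  have := finite_E hq hK b
  inferInstance

theorem range_cyclic : IsCyclic (Phi hq hK b).range := by
  have := finite_Eu hq hK b
  have := finite_E hq hK b
  have : Module.Finite (FF hq hK) E := Module.Finite.of_basis b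
  let Ω := AlgebraicClosure K
  let j : E →ₐ[FF hq hK] Ω := IsAlgClosed.lift
  let ι : Kˣ →* Ωˣ := Units.map (algebraMap K Ω).toMonoidHom
  let χ : Kˣ × Eˣ →* Ωˣ := ι.coprod (Units.map j.toRingHom.toMonoidHom)⁻¹
  have hker : (Phi hq hK b).ker = χ.ker := by
    rw [ker_Phi]
    refine le_antisymm ?_ ?_
    · rintro _ ⟨l, rfl⟩
      rw [MonoidHom.mem_ker]
      show ι _ * (Units.map j.toRingHom.toMonoidHom _)⁻¹ = 1
      rw [mul_inv_eq_one]
      exact Units.ext ((IsScalarTower.algebraMap_apply _ K Ω (l : FF hq hK)).symm.trans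
        (j.commutes _).symm)
    · rintro ⟨s, e⟩ h
      have h' : algebraMap K Ω s = j e := by
        have h2 : ι s * (Units.map j.toRingHom.toMonoidHom e)⁻¹ = 1 := h
        exact congrArg Units.val (mul_inv_eq_one.1 h2)
      have hs2 : (s : K) ^ (q ^ 2) = s := by
        apply (algebraMap K Ω).injective
        have : Fintype E := Fintype.ofFinite E
        rw [map_pow, h', ← map_pow]
        congr 1
        rw [← card_E hq hK b, Nat.card_eq_fintype_card, FiniteField.pow_card]
      have hs1 : (s : K) ^ q = s := by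
        have := pow_q_cube hK (s : K)
        rwa [hs2] at this
      set l : FF hq hK := ⟨s, (mem_FF hq hK).2 hs1⟩ with hl
      have hl0 : l ≠ 0 := fun h0 => s.ne_zero (congrArg Subtype.val h0)
      refine ⟨Units.mk0 l hl0, Prod.ext (Units.ext rfl) (Units.ext (j.injective ?_))⟩
      show j (algebraMap _ E l) = j e
      rw [j.commutes, IsScalarTower.algebraMap_apply _ K Ω, ← h']
      rfl
  let f := ((QuotientGroup.quotientKerEquivRange (Phi hq hK b)).symm.trans
    (QuotientGroup.quotientMulEquivOfEq hker)).trans (QuotientGroup.quotientKerEquivRange χ)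
  have : Finite χ.range := Finite.of_surjective _ χ.rangeRestrict_surjective
  exact f.symm.isCyclic.1 (isCyclic_subgroup_units χ.range)

theorem card_range : Nat.card (Phi hq hK b).range = (q ^ 3 - 1) * (q + 1) := by
  have := finite_Eu hq hK b
  have := finite_E hq hK b
  have h := Subgroup.card_eq_card_quotient_mul_card_subgroup (Phi hq hK b).ker
  rw [Nat.card_congr (QuotientGroup.quotientKerEquivRange (Phi hq hK b)).toEquiv, Nat.card_prod,
    Nat.card_units, Nat.card_units, card_E hq hK b, Nat.card_eq_fintype_card (α := K), hK] at h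
  have hinj : Function.Injective (diag' hq hK (E := E)) := fun l l' e =>
    Units.ext (Subtype.ext (congrArg Units.val (congrArg Prod.fst e)))
  rw [ker_Phi, ← Nat.card_congr (MonoidHom.ofInjective hinj).toEquiv, Nat.card_units, card_FF] at h
  have e2 : q ^ 2 - 1 = (q + 1) * (q - 1) := by
    have := Nat.sq_sub_sq q 1
    simpa using this
  rw [e2, ← mul_assoc] at h
  have hpos : 0 < q - 1 := by have := hq.one_lt; omega
  exact (Nat.eq_of_mul_eq_mul_right hpos h).symm

end torus

end Cfsg.Agent.ChevTw.D4Torus
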